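import Mathlib
import Cfsg.Prelude.Def_ConjugacyFunctors
import Cfsg.Agent.Lib.Helper27.H12.TransferSections
import Cfsg.Agent.Lib.Helper12.FamilyTransfer

/-!
Helper lemmas (helper12): the version of Glauberman's transfer theorem for a set `𝓦` of isomorphism-invariant
`p`-group functors: if `𝓦` controls transfer in every section `H` with `C_H(O_p(H)) ≤ O_p(H)`, then `𝓦` controls
transfer in every section.
-/

set_option autoImplicit false
set_option linter.unusedSectionVars false
set_option linter.style.haveILetI false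
open Subgroup
open scoped Pointwise commutatorElement

namespace Cfsg.Agent.Lib.Helper27.H12
open Cfsg.Agent.Lib.Helper12

universe u

section famtransport
variable {p : ℕ} [Fact p.Prime] (𝓦 : Set (∀ (Q : Type u) [Group Q], Subgroup Q))
  (h𝓦 : ∀ W ∈ 𝓦, Cfsg.IsCharPFunctor.{u} p W)

/-- the set of conjugacy functors induced on a group `H` -/
def inducedFamily (𝓦 : Set (∀ (Q : Type u) [Group Q], Subgroup Q)) (H : Type u) [Group H] :
    Set (Subgroup H → Subgroup H) :=
  (fun W => Cfsg.inducedFunctor (G := H) W) '' 𝓦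

include h𝓦 in
theorem isConjugacyFunctor_inducedFamily (H : Type u) [Group H] [Finite H] :
    ∀ W' ∈ inducedFamily 𝓦 H, Cfsg.IsConjugacyFunctor p W' := by
  rintro _ ⟨W, hW, rfl⟩
  exact isConjugacyFunctor_induced W (h𝓦 W hW) H

include h𝓦 in
/-- control of transfer by a set of functors in the whole group is invariant under isomorphism -/
theorem familyControlsTransferIn_top_of_equiv {X Y : Type u} [Group X] [Group Y] [Finite X]
    (e : X ≃* Y) (h : Cfsg.FamilyControlsTransferIn p (inducedFamily 𝓦 X) (⊤ : Subgroup X)) :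
    Cfsg.FamilyControlsTransferIn p (inducedFamily 𝓦 Y) (⊤ : Subgroup Y) := by
  obtain ⟨T, -, hTp, hidx, heq⟩ := h
  refine ⟨T.map e.toMonoidHom, le_top, hTp.map _, ?_, ?_⟩
  · rw [Subgroup.relIndex_top_right] at hidx ⊢
    rwa [Subgroup.index_map_of_bijective (f := e.toMonoidHom) e.bijective T]
  · have h1 := congrArg (Subgroup.map e.toMonoidHom) heq
    have htop : (⊤ : Subgroup X).map e.toMonoidHom = ⊤ :=
      Subgroup.map_top_of_surjective _ e.surjective
    rw [Subgroup.map_inf _ _ _ e.injective, Subgroup.map_commutator, htop] at h1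
    rw [h1, inducedFamily, inducedFamily, iSup_image, iSup_image, Subgroup.map_iSup]
    refine iSup_congr fun W => ?_
    rw [Subgroup.map_iSup]
    refine iSup_congr fun hW => ?_
    rw [inducedFunctor_map_equiv W (h𝓦 W hW) e T hTp, Subgroup.map_inf _ _ _ e.injective,
      Subgroup.map_commutator, Subgroup.map_inf _ _ _ e.injective,
      Subgroup.map_equiv_normalizer_eq, htop]

include h𝓦 in
/-- control of transfer in the group `↥N₁` gives control of transfer in the subgroup `N₁` -/
theorem familyControlsTransferIn_of_subtype {H : Type u} [Group H] [Finite H] (N₁ : Subgroup H)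
    (h : Cfsg.FamilyControlsTransferIn p (inducedFamily 𝓦 ↥N₁) ⊤) :
    Cfsg.FamilyControlsTransferIn p (inducedFamily 𝓦 H) N₁ := by
  obtain ⟨T, -, hTp, hidx, heq⟩ := h
  refine ⟨T.map N₁.subtype, Subgroup.map_subtype_le _, hTp.map _, ?_, ?_⟩
  · rw [Subgroup.relIndex_top_right] at hidx
    have : (T.map N₁.subtype).relIndex N₁ = T.index := by
      have h1 := Subgroup.relIndex_map_map_of_injective T ⊤ N₁.subtype_injective
      rw [← MonoidHom.range_eq_map, Subgroup.range_subtype, Subgroup.relIndex_top_right] at h1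
      exact h1
    rwa [this]
  · apply le_antisymm
    · rintro x ⟨⟨t, ht, rfl⟩, hx2⟩
      have h1 : t ∈ ⁅(⊤ : Subgroup ↥N₁), (⊤ : Subgroup ↥N₁)⁆ := by
        have h2 : ⁅N₁, N₁⁆ = (⁅(⊤ : Subgroup ↥N₁), (⊤ : Subgroup ↥N₁)⁆).map N₁.subtype := by
          rw [Subgroup.map_commutator, ← MonoidHom.range_eq_map, Subgroup.range_subtype]
        rw [h2] at hx2
        obtain ⟨t', ht', htt⟩ := hx2
        have : t' = t := Subtype.ext htt
        rwa [← this]
      have h3 : t ∈ T ⊓ ⁅(⊤ : Subgroup ↥N₁), (⊤ : Subgroup ↥N₁)⁆ := ⟨ht, h1⟩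
      rw [heq] at h3
      have h4 : N₁.subtype t ∈ (⨆ W' ∈ inducedFamily 𝓦 ↥N₁,
          T ⊓ ⁅⊤ ⊓ Subgroup.normalizer ((W' T : Subgroup ↥N₁) : Set ↥N₁),
            ⊤ ⊓ Subgroup.normalizer ((W' T : Subgroup ↥N₁) : Set ↥N₁)⁆).map N₁.subtype :=
        ⟨t, h3, rfl⟩
      refine (?_ : Subgroup.map N₁.subtype _ ≤ _) h4
      rw [inducedFamily, inducedFamily, iSup_image, iSup_image, Subgroup.map_iSup]
      refine iSup_mono fun W => ?_
      rw [Subgroup.map_iSup]
      refine iSup_mono fun hW => ?_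
      have hmapW : Cfsg.inducedFunctor W (T.map N₁.subtype) =
          (Cfsg.inducedFunctor W T).map N₁.subtype :=
        inducedFunctor_map_of_injOn W (h𝓦 W hW) N₁.subtype T hTp (N₁.subtype_injective.injOn)
      rw [Subgroup.map_inf _ _ _ N₁.subtype_injective, Subgroup.map_commutator]
      refine inf_le_inf_left _ (Subgroup.commutator_mono ?_ ?_)
      all_goals
        rintro _ ⟨n, hn, rfl⟩
        refine ⟨n.2, ?_⟩
        rw [hmapW]
        have hn2 : n ∈ Subgroup.normalizer ((Cfsg.inducedFunctor W T : Subgroup ↥N₁) : Set ↥N₁) := hn.2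
        show (n : H) ∈ Subgroup.normalizer
          (((Cfsg.inducedFunctor W T).map N₁.subtype : Subgroup H) : Set H)
        rw [Subgroup.mem_normalizer_iff] at hn2 ⊢
        intro y
        constructor
        · rintro ⟨w, hw, rfl⟩
          exact ⟨n * w * n⁻¹, (hn2 w).mp hw, rfl⟩
        · rintro ⟨w, hw, hwy⟩
          have hyN : y ∈ N₁ := by
            have : y = (n : H)⁻¹ * (w : H) * (n : H) := by
              rw [show (w : H) = N₁.subtype w from rfl, hwy]; group
            rw [this]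
            exact N₁.mul_mem (N₁.mul_mem (N₁.inv_mem n.2) w.2) n.2
          refine ⟨⟨y, hyN⟩, ?_, rfl⟩
          have : n * ⟨y, hyN⟩ * n⁻¹ = w := Subtype.ext hwy.symm
          exact (hn2 ⟨y, hyN⟩).mpr (by rw [this]; exact hw)
    · apply iSup₂_le
      intro W' _
      exact inf_le_inf_left _ (Subgroup.commutator_mono inf_le_left inf_le_left)

end famtransport

section Llemmas
variable {p : ℕ} [Fact p.Prime] (W : ∀ (Q : Type u) [Group Q], Subgroup Q)
  (hW : Cfsg.IsCharPFunctor.{u} p W)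

include hW in
/-- a Sylow subgroup lies in the preimage of the normalizer of `W` of its image -/
theorem sylow_le_comap_normalizer {H : Type u} [Group H] [Finite H] (Z : Subgroup H) [Z.Normal]
    (S : Sylow p H) :
    (S : Subgroup H) ≤ (Subgroup.normalizer ((Cfsg.inducedFunctor W
      ((S : Subgroup H).map (QuotientGroup.mk' Z)) : Subgroup (H ⧸ Z)) : Set (H ⧸ Z))).comap
        (QuotientGroup.mk' Z) := by
  have hWq := isConjugacyFunctor_induced W hW (H ⧸ Z)
  intro s hs
  exact (Subgroup.le_normalizer.trans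
    (normalizer_le_normalizer_of_isConjugacyFunctor hWq (S.2.map (QuotientGroup.mk' Z))))
    ⟨s, hs, rfl⟩

include hW in
/-- if `S ≠ O_p(H)`, the preimage of `N_{H/P}(W(S/P))`, `P = O_p(H)`, is a proper subgroup -/
theorem comap_normalizer_ne_top {H : Type u} [Group H] [Finite H] (P : Subgroup H) [hPn : P.Normal]
    (hP : P = Cfsg.pCore p H) (S : Sylow p H) (hSP : (S : Subgroup H) ≠ P) :
    (Subgroup.normalizer ((Cfsg.inducedFunctor W
      ((S : Subgroup H).map (QuotientGroup.mk' P)) : Subgroup (H ⧸ P)) : Set (H ⧸ P))).comap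
        (QuotientGroup.mk' P) ≠ ⊤ := by
  have hPp : IsPGroup p P := hP ▸ Cfsg.Agent.Lib.Helper1.pCore_isPGroup p H
  have hPS : P ≤ (S : Subgroup H) := hP ▸ Cfsg.Agent.Lib.Helper1.pCore_le_sylow S
  set π := QuotientGroup.mk' P with hπ
  have hπs : Function.Surjective π := QuotientGroup.mk'_surjective P
  set Sb := (S : Subgroup H).map π with hSb
  have hWq := isConjugacyFunctor_induced W hW (H ⧸ P)
  set Nb := Subgroup.normalizer ((Cfsg.inducedFunctor W Sb : Subgroup (H ⧸ P)) : Set (H ⧸ P))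
    with hNb
  intro hLtop
  have hNbtop : Nb = ⊤ := by
    rw [eq_top_iff]
    intro y _
    obtain ⟨x, rfl⟩ := hπs y
    have : x ∈ Nb.comap π := by rw [hLtop]; trivial
    exact this
  have hVn : (Cfsg.inducedFunctor W Sb : Subgroup (H ⧸ P)).Normal :=
    Subgroup.normalizer_eq_top_iff.mp hNbtop
  set V := (Cfsg.inducedFunctor W Sb : Subgroup (H ⧸ P)).comap π with hV
  have hVn' : V.Normal := hVn.comap π
  have hWSb : IsPGroup p (Cfsg.inducedFunctor W Sb : Subgroup (H ⧸ P)) :=
    (S.2.map π).to_le (hWq Sb (S.2.map π)).1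
  have hVp : IsPGroup p V := by
    apply hWSb.comap_of_ker_isPGroup
    rw [hπ, QuotientGroup.ker_mk']
    exact hPp
  have hVP : V ≤ P := hP ▸ Cfsg.Agent.Lib.Helper1.le_pCore hVn' hVp
  have hbot : (Cfsg.inducedFunctor W Sb : Subgroup (H ⧸ P)) = ⊥ := by
    rw [← Subgroup.map_comap_eq_self_of_surjective hπs (Cfsg.inducedFunctor W Sb), eq_bot_iff]
    calc V.map π ≤ P.map π := Subgroup.map_mono hVP
      _ = ⊥ := by rw [Subgroup.map_eq_bot_iff, QuotientGroup.ker_mk']
  have hSbbot : Sb = ⊥ := by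
    by_contra h
    exact (hWq Sb (S.2.map π)).2.1 h hbot
  have hSleP : (S : Subgroup H) ≤ P := by
    rw [hSb, Subgroup.map_eq_bot_iff, QuotientGroup.ker_mk'] at hSbbot
    exact hSbbot
  exact hSP (le_antisymm hSleP hPS)

end Llemmas

section famkey
variable {p : ℕ} [Fact p.Prime] (𝓦 : Set (∀ (Q : Type u) [Group Q], Subgroup Q))
  (h𝓦 : ∀ W ∈ 𝓦, Cfsg.IsCharPFunctor.{u} p W)

/-- the hypothesis on a group `Q` with `C_Q(O_p(Q)) ≤ O_p(Q)` -/
def FamFocalHyp (p : ℕ) (𝓦 : Set (∀ (Q : Type u) [Group Q], Subgroup Q)) (Q : Type u) [Group Q] :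
    Prop :=
  Subgroup.centralizer ((Cfsg.pCore p Q : Subgroup Q) : Set Q) ≤ Cfsg.pCore p Q →
    Cfsg.FamilyControlsTransferIn p ((fun W => Cfsg.inducedFunctor (G := Q) W) '' 𝓦) ⊤

omit [Fact p.Prime] in
/-- the condition `C(O_p) ≤ O_p` is invariant under isomorphism -/
theorem centralizer_pCore_le_of_equiv {Q Q' : Type u} [Group Q] [Group Q'] (e : Q ≃* Q')
    (hC' : Subgroup.centralizer ((Cfsg.pCore p Q' : Subgroup Q') : Set Q') ≤ Cfsg.pCore p Q') :
    Subgroup.centralizer ((Cfsg.pCore p Q : Subgroup Q) : Set Q) ≤ Cfsg.pCore p Q := by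
  have hcore : (Cfsg.pCore p Q).map e.toMonoidHom = Cfsg.pCore p Q' := pCore_map_equiv' p e
  intro x hx
  have h1 : e x ∈ Subgroup.centralizer ((Cfsg.pCore p Q' : Subgroup Q') : Set Q') := by
    rw [Subgroup.mem_centralizer_iff]
    intro y' hy'
    rw [SetLike.mem_coe, ← hcore] at hy'
    obtain ⟨y, hy, rfl⟩ := hy'
    have := (Subgroup.mem_centralizer_iff.mp hx) y hy
    show e y * e x = e x * e y
    rw [← map_mul, ← map_mul, this]
  have h2 := hC' h1
  rw [← hcore] at h2
  obtain ⟨x', hx', hxx⟩ := h2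
  have : x' = x := e.injective hxx
  rwa [← this]

include h𝓦 in
theorem famFocalHyp_of_equiv {Q Q' : Type u} [Group Q] [Group Q'] [Finite Q] (e : Q ≃* Q')
    (h : FamFocalHyp p 𝓦 Q) : FamFocalHyp p 𝓦 Q' := by
  intro hC'
  exact familyControlsTransferIn_top_of_equiv 𝓦 h𝓦 e (h (centralizer_pCore_le_of_equiv e hC'))

include h𝓦 in
/-- the inductive step for a group with `O_p(H) ≠ 1` -/
theorem fam_inf_commutator_le_of_pCore_ne_bot {H : Type u} [Group H] [Finite H] (S : Sylow p H)
    (ihsub : ∀ N₁ : Subgroup H, N₁ ≠ ⊤ →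
      Cfsg.FamilyControlsTransferIn p (inducedFamily 𝓦 H) N₁)
    (ihquot : ∀ (Z : Subgroup H) [Z.Normal], Z ≠ ⊥ →
      Cfsg.FamilyControlsTransferIn p (inducedFamily 𝓦 (H ⧸ Z)) ⊤)
    (hH : FamFocalHyp p 𝓦 H) (hP : Cfsg.pCore p H ≠ ⊥) :
    (S : Subgroup H) ⊓ commutator H ≤ ⨆ W ∈ 𝓦, (S : Subgroup H) ⊓
      ⁅Subgroup.normalizer ((Cfsg.inducedFunctor W (S : Subgroup H) : Subgroup H) : Set H),
        Subgroup.normalizer ((Cfsg.inducedFunctor W (S : Subgroup H) : Subgroup H) : Set H)⁆ := by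
  have hfam := isConjugacyFunctor_inducedFamily 𝓦 h𝓦 H
  set F : Subgroup H := ⨆ W ∈ 𝓦, (S : Subgroup H) ⊓
      ⁅Subgroup.normalizer ((Cfsg.inducedFunctor W (S : Subgroup H) : Subgroup H) : Set H),
        Subgroup.normalizer ((Cfsg.inducedFunctor W (S : Subgroup H) : Subgroup H) : Set H)⁆ with hF
  have hFS : F ≤ (S : Subgroup H) := iSup₂_le fun _ _ => inf_le_left
  have hFH : F ≤ commutator H := iSup₂_le fun _ _ => inf_le_right.trans (by
    rw [commutator_def]; exact Subgroup.commutator_mono le_top le_top)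
  have hSM : ∀ W ∈ 𝓦, (S : Subgroup H) ≤
      Subgroup.normalizer ((Cfsg.inducedFunctor W (S : Subgroup H) : Subgroup H) : Set H) := by
    intro W hW
    exact Subgroup.le_normalizer.trans (normalizer_le_normalizer_of_isConjugacyFunctor
      (isConjugacyFunctor_induced W (h𝓦 W hW) H) S.2)
  have hSpow : ∀ x ∈ (S : Subgroup H), ∃ k : ℕ, x ^ p ^ k = 1 := by
    intro x hx
    obtain ⟨k, hk⟩ := S.2 ⟨x, hx⟩
    exact ⟨k, by simpa using congrArg Subtype.val hk⟩
  have hsub : ∀ N₁ : Subgroup H, N₁ ≠ ⊤ → (S : Subgroup H) ≤ N₁ →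
      (S : Subgroup H) ⊓ ⁅N₁, N₁⁆ ≤ F := by
    intro N₁ hne hSN
    have hidx : ¬ p ∣ (S : Subgroup H).relIndex N₁ := fun hdvd =>
      S.not_dvd_index (dvd_trans hdvd (Subgroup.relIndex_dvd_index_of_le hSN))
    have heq := familyControlsTransferIn_sylow _ hfam (ihsub N₁ hne) hSN S.2 hidx
    rw [heq, inducedFamily, iSup_image]
    exact iSup₂_mono fun W hW => inf_le_inf_left _
      (Subgroup.commutator_mono inf_le_right inf_le_right)
  by_cases hD : Cfsg.pPrimeCore p H = ⊥
  · by_cases hC : Subgroup.centralizer ((Cfsg.pCore p H : Subgroup H) : Set H) ≤ Cfsg.pCore p H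
    · have hidx : ¬ p ∣ (S : Subgroup H).relIndex ⊤ := by
        rw [Subgroup.relIndex_top_right]; exact S.not_dvd_index
      have heq := familyControlsTransferIn_sylow _ hfam (hH hC) le_top S.2 hidx
      rw [commutator_def, heq, inducedFamily, iSup_image]
      exact iSup₂_mono fun W hW => by rw [top_inf_eq]
    · set P := Cfsg.pCore p H with hPdef
      haveI hPn : P.Normal := Cfsg.Agent.Lib.Helper1.pCore_normal p H
      have hPp : IsPGroup p P := Cfsg.Agent.Lib.Helper1.pCore_isPGroup p H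
      have hPS : P ≤ (S : Subgroup H) := Cfsg.Agent.Lib.Helper1.pCore_le_sylow S
      set C := Subgroup.centralizer (P : Set H) with hCdef
      haveI hCn : C.Normal := Subgroup.normal_centralizer
      have hCS : ¬ ((S : Subgroup H) ⊓ C ≤ P) := fun h =>
        hC (centralizer_pCore_le_of_sylow_inf S hD h)
      have hSP : (S : Subgroup H) ≠ P := by
        intro h
        apply hCS
        rw [h]
        exact inf_le_left
      set N := P ⊔ C with hN
      haveI hNn : N.Normal := inferInstance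
      obtain ⟨R₀, hR₀⟩ := Cfsg.Agent.Lib.Helper16.exists_sylow_of_normal_inf S N
      have hfr := Sylow.normalizer_sup_eq_top R₀
      rw [hR₀] at hfr
      set R := (S : Subgroup H) ⊓ N with hR
      set N₂ := Subgroup.normalizer (R : Set H) with hN₂
      have hPR : P ≤ R := le_inf hPS le_sup_left
      have hSN₂ : (S : Subgroup H) ≤ N₂ := by
        intro s hs
        rw [hN₂, Subgroup.mem_normalizer_iff]
        intro y
        constructor
        · rintro ⟨hyS, hyN⟩
          exact ⟨(S : Subgroup H).mul_mem ((S : Subgroup H).mul_mem hs hyS)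
            ((S : Subgroup H).inv_mem hs), hNn.conj_mem y hyN s⟩
        · rintro ⟨h1, h2⟩
          refine ⟨?_, ?_⟩
          · have e : y = s⁻¹ * (s * y * s⁻¹) * s := by group
            rw [e]
            exact (S : Subgroup H).mul_mem ((S : Subgroup H).mul_mem
              ((S : Subgroup H).inv_mem hs) h1) hs
          · have := hNn.conj_mem _ h2 s⁻¹
            have e : y = s⁻¹ * (s * y * s⁻¹) * s⁻¹⁻¹ := by group
            rw [e]; exact this
      have hN₂ne : N₂ ≠ ⊤ := by
        intro htop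
        have hRn : R.Normal := Subgroup.normalizer_eq_top_iff.mp htop
        have hRP : R ≤ P := Cfsg.Agent.Lib.Helper1.le_pCore hRn (S.2.to_le inf_le_left)
        exact hCS ((inf_le_inf_left _ le_sup_right).trans hRP)
      have h3 := hsub N₂ hN₂ne hSN₂
      have hN₂C : N₂ ⊔ C = ⊤ := by
        rw [eq_top_iff, ← hfr]
        exact sup_le le_sup_left
          (sup_le ((hPR.trans Subgroup.le_normalizer).trans le_sup_left) le_sup_right)
      have hPcomm : ⁅P, (⊤ : Subgroup H)⁆ ≤ ⁅P, N₂⁆ := by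
        rw [Subgroup.commutator_le]
        intro x hx h _
        have hh : h ∈ N₂ ⊔ C := by rw [hN₂C]; trivial
        rw [Subgroup.mem_sup_of_normal_right] at hh
        obtain ⟨n, hn, c, hc, rfl⟩ := hh
        have hcx : x⁻¹ * c = c * x⁻¹ :=
          (Subgroup.mem_centralizer_iff.mp hc) x⁻¹ (P.inv_mem hx)
        have e : ⁅x, n * c⁆ = ⁅x, n⁆ := by
          rw [commutatorElement_def, commutatorElement_def]
          calc x * (n * c) * x⁻¹ * (n * c)⁻¹ = x * n * (c * x⁻¹) * c⁻¹ * n⁻¹ := by group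
            _ = x * n * (x⁻¹ * c) * c⁻¹ * n⁻¹ := by rw [hcx]
            _ = x * n * x⁻¹ * n⁻¹ := by group
        rw [e]
        exact Subgroup.commutator_mem_commutator hx hn
      have hPH : P ⊓ commutator H ≤ F := by
        refine (normal_inf_commutator_le S P hPS).trans (sup_le ?_ ?_)
        · refine hPcomm.trans (le_trans (le_inf ?_ ?_) h3)
          · exact (Subgroup.commutator_le_left P N₂).trans hPS
          · exact Subgroup.commutator_mono (hPR.trans Subgroup.le_normalizer) le_rfl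
        · refine le_trans (le_inf ?_ ?_) h3
          · exact Subgroup.commutator_le_self _
          · exact Subgroup.commutator_mono hSN₂ hSN₂
      -- the quotient by `P`
      set π := QuotientGroup.mk' P with hπ
      have hπs : Function.Surjective π := QuotientGroup.mk'_surjective P
      set Sb := (S : Subgroup H).map π with hSb
      have hfamq := isConjugacyFunctor_inducedFamily 𝓦 h𝓦 (H ⧸ P)
      have hidx : ¬ p ∣ Sb.relIndex ⊤ := by
        rw [Subgroup.relIndex_top_right]
        intro hdvd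
        exact S.not_dvd_index (dvd_trans hdvd (Subgroup.index_map_dvd _ hπs))
      have heq := familyControlsTransferIn_sylow _ hfamq (ihquot P hP) (le_top : Sb ≤ ⊤)
        (S.2.map π) hidx
      intro x hx
      have h1 : π x ∈ Sb ⊓ ⁅(⊤ : Subgroup (H ⧸ P)), (⊤ : Subgroup (H ⧸ P))⁆ := by
        refine ⟨⟨x, hx.1, rfl⟩, ?_⟩
        have : (commutator H).map π ≤ ⁅(⊤ : Subgroup (H ⧸ P)), (⊤ : Subgroup (H ⧸ P))⁆ := by
          rw [commutator_def, Subgroup.map_commutator]
          exact Subgroup.commutator_mono le_top le_top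
        exact this ⟨x, hx.2, rfl⟩
      rw [heq, inducedFamily, iSup_image] at h1
      have hterm : ∀ W ∈ 𝓦, Sb ⊓
          ⁅⊤ ⊓ Subgroup.normalizer ((Cfsg.inducedFunctor W Sb : Subgroup (H ⧸ P)) : Set (H ⧸ P)),
            ⊤ ⊓ Subgroup.normalizer ((Cfsg.inducedFunctor W Sb : Subgroup (H ⧸ P)) : Set (H ⧸ P))⁆ ≤
          F.map π := by
        intro W hW
        rintro y ⟨⟨s, hs, rfl⟩, hy2⟩
        rw [top_inf_eq] at hy2
        set Nb := Subgroup.normalizer ((Cfsg.inducedFunctor W Sb : Subgroup (H ⧸ P)) : Set (H ⧸ P))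
          with hNb
        set L := Nb.comap π with hL
        have h2 : ⁅Nb, Nb⁆ = (⁅L, L⁆).map π := by
          rw [Subgroup.map_commutator, hL, Subgroup.map_comap_eq_self_of_surjective hπs]
        rw [h2] at hy2
        obtain ⟨l, hl, hls⟩ := hy2
        have hz : l⁻¹ * s ∈ P := QuotientGroup.eq.mp hls
        have hlS : l ∈ (S : Subgroup H) := by
          have e : l = s * (l⁻¹ * s)⁻¹ := by group
          rw [e]
          exact (S : Subgroup H).mul_mem hs ((S : Subgroup H).inv_mem (hPS hz))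
        have hLne : L ≠ ⊤ := comap_normalizer_ne_top W (h𝓦 W hW) P rfl S hSP
        have hSL : (S : Subgroup H) ≤ L := sylow_le_comap_normalizer W (h𝓦 W hW) P S
        have hlF : l ∈ F := hsub L hLne hSL ⟨hlS, hl⟩
        exact ⟨l, hlF, hls⟩
      have h5 : π x ∈ F.map π := (iSup₂_le hterm) h1
      obtain ⟨f, hf, hfx⟩ := h5
      have hz : f⁻¹ * x ∈ P := QuotientGroup.eq.mp hfx
      have hzH : f⁻¹ * x ∈ commutator H :=
        Subgroup.mul_mem _ (Subgroup.inv_mem _ (hFH hf)) hx.2
      have e : x = f * (f⁻¹ * x) := by group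
      rw [e]
      exact Subgroup.mul_mem _ hf (hPH ⟨hz, hzH⟩)
  · set D := Cfsg.pPrimeCore p H with hDdef
    haveI hDn : D.Normal := Cfsg.Agent.Lib.Helper1.pPrimeCore_normal p H
    have hDcop : (Nat.card D).Coprime p := pPrimeCore_coprime p
    set π := QuotientGroup.mk' D with hπ
    have hπs : Function.Surjective π := QuotientGroup.mk'_surjective D
    set Sb := (S : Subgroup H).map π with hSb
    have hfamq := isConjugacyFunctor_inducedFamily 𝓦 h𝓦 (H ⧸ D)
    have hidx : ¬ p ∣ Sb.relIndex ⊤ := by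
      rw [Subgroup.relIndex_top_right]
      intro hdvd
      exact S.not_dvd_index (dvd_trans hdvd (Subgroup.index_map_dvd _ hπs))
    have heq := familyControlsTransferIn_sylow _ hfamq (ihquot D hD) (le_top : Sb ≤ ⊤)
      (S.2.map π) hidx
    have hdisj : (S : Subgroup H) ⊓ D = ⊥ := by
      apply disjoint_iff.mp
      apply Subgroup.disjoint_of_coprime_natCard
      obtain ⟨k, hk⟩ := IsPGroup.iff_card.mp S.2
      rw [hk]
      exact (Nat.Coprime.pow_right k hDcop).symm
    intro x hx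
    have h1 : π x ∈ Sb ⊓ ⁅(⊤ : Subgroup (H ⧸ D)), (⊤ : Subgroup (H ⧸ D))⁆ := by
      refine ⟨⟨x, hx.1, rfl⟩, ?_⟩
      have : (commutator H).map π ≤ ⁅(⊤ : Subgroup (H ⧸ D)), (⊤ : Subgroup (H ⧸ D))⁆ := by
        rw [commutator_def, Subgroup.map_commutator]
        exact Subgroup.commutator_mono le_top le_top
      exact this ⟨x, hx.2, rfl⟩
    rw [heq, inducedFamily, iSup_image] at h1
    have hterm : ∀ W ∈ 𝓦, Sb ⊓
        ⁅⊤ ⊓ Subgroup.normalizer ((Cfsg.inducedFunctor W Sb : Subgroup (H ⧸ D)) : Set (H ⧸ D)),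
          ⊤ ⊓ Subgroup.normalizer ((Cfsg.inducedFunctor W Sb : Subgroup (H ⧸ D)) : Set (H ⧸ D))⁆ ≤
        F.map π := by
      intro W hW
      rintro y ⟨⟨s, hs, rfl⟩, hy2⟩
      rw [top_inf_eq] at hy2
      set Nb := Subgroup.normalizer ((Cfsg.inducedFunctor W Sb : Subgroup (H ⧸ D)) : Set (H ⧸ D))
        with hNb
      set L := Nb.comap π with hL
      set M := Subgroup.normalizer ((Cfsg.inducedFunctor W (S : Subgroup H) : Subgroup H) : Set H)
        with hM
      have h2 : ⁅Nb, Nb⁆ = (⁅L, L⁆).map π := by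
        rw [Subgroup.map_commutator, hL, Subgroup.map_comap_eq_self_of_surjective hπs]
      rw [h2] at hy2
      obtain ⟨l, hl, hls⟩ := hy2
      have h3 : L ≤ M ⊔ D := comap_normalizer_le_of_coprime W (h𝓦 W hW) D hDcop S
      have hl' : l ∈ ⁅M, M⁆ ⊔ D :=
        ((Subgroup.commutator_mono h3 h3).trans (commutator_sup_normal_le M D)) hl
      have hs' : s ∈ ⁅M, M⁆ ⊔ D := by
        have hz : l⁻¹ * s ∈ D := QuotientGroup.eq.mp hls
        have e : s = l * (l⁻¹ * s) := by group
        rw [e]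
        exact Subgroup.mul_mem _ hl' (Subgroup.mem_sup_right hz)
      have hsM : s ∈ ⁅M, M⁆ :=
        mem_commutator_of_mem_sup_coprime M D hDcop (hSM W hW hs) (hSpow s hs) hs'
      refine ⟨s, ?_, rfl⟩
      exact (le_iSup₂_of_le W hW le_rfl : (S : Subgroup H) ⊓ ⁅M, M⁆ ≤ F) ⟨hs, hsM⟩
    have h5 : π x ∈ F.map π := (iSup₂_le hterm) h1
    obtain ⟨f, hf, hfx⟩ := h5
    have hz : f⁻¹ * x ∈ D := QuotientGroup.eq.mp hfx
    have hzS : f⁻¹ * x ∈ (S : Subgroup H) :=
      (S : Subgroup H).mul_mem ((S : Subgroup H).inv_mem (hFS hf)) hx.1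
    have h6 : f⁻¹ * x = 1 := by
      have : f⁻¹ * x ∈ (S : Subgroup H) ⊓ D := ⟨hzS, hz⟩
      rwa [hdisj, Subgroup.mem_bot] at this
    have e : x = f := by
      rw [inv_mul_eq_one] at h6; exact h6.symm
    rw [e]; exact hf

include h𝓦 in
/-- **Glauberman**: control of transfer by `𝓦` in all constrained sections gives control of transfer -/
theorem familyControlsTransferIn_top_of_famFocalHyp : ∀ (n : ℕ) (H : Type u) [Group H] [Finite H],
    Nat.card H = n → AllSections (fun Q _ => Finite Q → FamFocalHyp p 𝓦 Q) H →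
    Cfsg.FamilyControlsTransferIn p (inducedFamily 𝓦 H) ⊤ := by
  intro n
  induction n using Nat.strong_induction_on with
  | _ n ih =>
  intro H _ _ hcard hgood
  have hΦ : ∀ (Q Q' : Type u) [Group Q] [Group Q'], (Q ≃* Q') →
      (Finite Q → FamFocalHyp p 𝓦 Q) → (Finite Q' → FamFocalHyp p 𝓦 Q') := by
    intro Q Q' _ _ e h hfin
    haveI : Finite Q := Finite.of_equiv Q' e.symm.toEquiv
    exact famFocalHyp_of_equiv 𝓦 h𝓦 e (h inferInstance)
  obtain ⟨S⟩ : Nonempty (Sylow p H) := inferInstance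
  have hfam := isConjugacyFunctor_inducedFamily 𝓦 h𝓦 H
  have ihsub : ∀ N₁ : Subgroup H, N₁ ≠ ⊤ →
      Cfsg.FamilyControlsTransferIn p (inducedFamily 𝓦 H) N₁ := by
    intro N₁ hne
    apply familyControlsTransferIn_of_subtype 𝓦 h𝓦
    apply ih (Nat.card N₁) _ ↥N₁ rfl (AllSections.subgroup _ hΦ hgood N₁)
    rw [← hcard]
    exact lt_of_le_of_ne (Subgroup.card_le_card_group N₁)
      (fun h => hne ((Subgroup.card_eq_iff_eq_top N₁).mp h))
  have ihquot : ∀ (Z : Subgroup H) [Z.Normal], Z ≠ ⊥ →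
      Cfsg.FamilyControlsTransferIn p (inducedFamily 𝓦 (H ⧸ Z)) ⊤ := by
    intro Z _ hne
    apply ih (Nat.card (H ⧸ Z)) _ (H ⧸ Z) rfl (AllSections.quotient _ hΦ hgood Z)
    rw [← hcard, ← Subgroup.index_eq_card, ← Z.index_mul_card]
    have h1 : 1 < Nat.card Z := (Subgroup.one_lt_card_iff_ne_bot Z).mpr hne
    have h0 : 0 < Z.index := Nat.pos_of_ne_zero Subgroup.index_ne_zero_of_finite
    nlinarith
  have hH : FamFocalHyp p 𝓦 H := AllSections.self _ hΦ hgood inferInstance
  apply familyControlsTransferIn_top_of_tame _ hfam S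
  intro T hTS hTne _
  by_cases hN : Subgroup.normalizer (T : Set H) = ⊤
  · rw [hN]
    have hTn : T.Normal := Subgroup.normalizer_eq_top_iff.mp hN
    have hTp : IsPGroup p T := S.2.to_le hTS
    have hPne : Cfsg.pCore p H ≠ ⊥ := by
      intro h
      apply hTne
      rw [eq_bot_iff, ← h]
      exact Cfsg.Agent.Lib.Helper1.le_pCore hTn hTp
    have hkey := fam_inf_commutator_le_of_pCore_ne_bot 𝓦 h𝓦 S ihsub ihquot hH hPne
    refine ⟨S, le_top, S.2, ?_, ?_⟩
    · rw [Subgroup.relIndex_top_right]; exact S.not_dvd_index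
    · rw [inducedFamily, iSup_image]
      apply le_antisymm
      · rw [← commutator_def]
        refine hkey.trans (iSup₂_mono fun W hW => ?_)
        rw [top_inf_eq]
      · apply iSup₂_le
        intro W _
        exact inf_le_inf_left _ (Subgroup.commutator_mono le_top le_top)
  · exact ihsub _ hN

end famkey

end Cfsg.Agent.Lib.Helper27.H12
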