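import Mathlib
import Cfsg.Prelude.Def_ConjugacyFunctors
import Cfsg.Agent.Lib.Helper12.FamilyFusion
import Cfsg.Agent.Lib.Helper27.H12.FamilyTransferSections

/-!
Helper lemmas (helper12): Glauberman's local-to-global theorem for strong fusion and a set `𝓦` of
isomorphism-invariant `p`-group functors: if `𝓦` controls strong fusion in every section `H` with
`C_H(O_p(H)) ≤ O_p(H)`, then `𝓦` controls strong fusion in every section.
-/

set_option autoImplicit false
set_option linter.unusedSectionVars false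
set_option linter.style.haveILetI false
open Subgroup
open scoped Pointwise commutatorElement

namespace Cfsg.Agent.Lib.Helper27.H12
open Cfsg.Agent.Lib.Helper12

universe u

section fustransport
variable {p : ℕ} [Fact p.Prime] (𝓦 : Set (∀ (Q : Type u) [Group Q], Subgroup Q))
  (h𝓦 : ∀ W ∈ 𝓦, Cfsg.IsCharPFunctor.{u} p W)

theorem lcj_image_hom {X Y : Type*} [Group X] [Group Y] (f : X →* Y) (c : X) (A : Set X) :
    lcj (f c) (f '' A) = f '' (lcj c A) := by
  ext y
  constructor
  · rintro ⟨_, ⟨a, ha, rfl⟩, rfl⟩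
    exact ⟨c * a * c⁻¹, mem_lcj_of_mem ha, by simp⟩
  · rintro ⟨_, ⟨a, ha, rfl⟩, rfl⟩
    exact ⟨f a, ⟨a, ha, rfl⟩, by simp⟩

include h𝓦 in
/-- transport of chains along an injective homomorphism -/
theorem FReach.map_of_injective {X Y : Type u} [Group X] [Group Y] [Finite X] (f : X →* Y)
    (hf : Function.Injective f) (T : Subgroup X) (hT : IsPGroup p T) {A : Set X} {c : X}
    (h : FReach (inducedFamily 𝓦 X) ⊤ T A c) :
    FReach (inducedFamily 𝓦 Y) f.range (T.map f) (f '' A) (f c) := by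
  induction h with
  | refl hA =>
    rw [map_one]
    apply FReach.refl
    rintro _ ⟨a, ha, rfl⟩
    exact ⟨a, hA ha, rfl⟩
  | step c y W' hW' hy hc himg ih =>
    obtain ⟨W, hW, rfl⟩ := hW'
    rw [map_mul]
    refine FReach.step _ _ (Cfsg.inducedFunctor W) ⟨W, hW, rfl⟩ ?_ ih ?_
    · refine Subgroup.mem_inf.mpr ⟨⟨y, rfl⟩, ?_⟩
      rw [inducedFunctor_map_of_injOn W (h𝓦 W hW) f T hT hf.injOn]
      exact Subgroup.le_normalizer_map f ⟨y, (Subgroup.mem_inf.mp hy).2, rfl⟩
    · rw [← map_mul, lcj_image_hom]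
      rintro _ ⟨a, ha, rfl⟩
      exact ⟨a, himg ha, rfl⟩

include h𝓦 in
/-- control of strong fusion in `X` gives control of strong fusion in the image of an injective homomorphism -/
theorem familyControlsStrongFusionIn_range_of_injective {X Y : Type u} [Group X] [Group Y] [Finite X]
    (f : X →* Y) (hf : Function.Injective f)
    (h : Cfsg.FamilyControlsStrongFusionIn p (inducedFamily 𝓦 X) (⊤ : Subgroup X)) :
    Cfsg.FamilyControlsStrongFusionIn p (inducedFamily 𝓦 Y) f.range := by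
  obtain ⟨T, -, hTp, hidx, hctl⟩ := h
  refine ⟨T.map f, ?_, hTp.map _, ?_, ?_⟩
  · rintro _ ⟨t, -, rfl⟩
    exact ⟨t, rfl⟩
  · have h1 := Subgroup.relIndex_map_map_of_injective T ⊤ hf
    rw [← MonoidHom.range_eq_map] at h1
    rwa [h1]
  · intro A' h' hh' hA' hA'h
    obtain ⟨h, rfl⟩ := hh'
    rw [← fctl_iff_fin]
    set A := f ⁻¹' A' with hA
    have hAT : A ⊆ T := by
      intro a ha
      obtain ⟨t, ht, hta⟩ := hA' ha
      rwa [← hf hta]
    have hfA : f '' A = A' := by
      apply Set.image_preimage_eq_of_subset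
      intro a' ha'
      obtain ⟨t, -, rfl⟩ := hA' ha'
      exact ⟨t, rfl⟩
    have hAh : (fun a => h * a * h⁻¹) '' A ⊆ T := by
      rintro _ ⟨a, ha, rfl⟩
      have h1 : f h * f a * (f h)⁻¹ ∈ T.map f := hA'h ⟨f a, ha, rfl⟩
      obtain ⟨t, ht, hta⟩ := h1
      have : t = h * a * h⁻¹ := hf (by rw [hta]; simp)
      show h * a * h⁻¹ ∈ T
      rw [← this]; exact ht
    obtain ⟨c, hc, hag⟩ := fctl_iff_fin.mpr (hctl A h (Subgroup.mem_top _) hAT hAh)
    refine ⟨f c, ?_, ?_⟩
    · rw [← hfA]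
      exact FReach.map_of_injective 𝓦 h𝓦 f hf T hTp hc
    · intro a' ha'
      rw [← hfA] at ha'
      obtain ⟨a, ha, rfl⟩ := ha'
      have := congrArg f (hag a ha)
      simpa using this

include h𝓦 in
theorem familyControlsStrongFusionIn_top_of_equiv {X Y : Type u} [Group X] [Group Y] [Finite X]
    (e : X ≃* Y) (h : Cfsg.FamilyControlsStrongFusionIn p (inducedFamily 𝓦 X) (⊤ : Subgroup X)) :
    Cfsg.FamilyControlsStrongFusionIn p (inducedFamily 𝓦 Y) (⊤ : Subgroup Y) := by
  have h1 := familyControlsStrongFusionIn_range_of_injective 𝓦 h𝓦 e.toMonoidHom e.injective h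
  have h2 : e.toMonoidHom.range = ⊤ := MonoidHom.range_eq_top.mpr e.surjective
  rwa [h2] at h1

include h𝓦 in
theorem familyControlsStrongFusionIn_of_subtype {H : Type u} [Group H] [Finite H] (N₁ : Subgroup H)
    (h : Cfsg.FamilyControlsStrongFusionIn p (inducedFamily 𝓦 ↥N₁) ⊤) :
    Cfsg.FamilyControlsStrongFusionIn p (inducedFamily 𝓦 H) N₁ := by
  have h1 := familyControlsStrongFusionIn_range_of_injective 𝓦 h𝓦 N₁.subtype N₁.subtype_injective h
  rwa [Subgroup.range_subtype] at h1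

end fustransport

section fuscoprime
variable {p : ℕ} [Fact p.Prime] (𝓦 : Set (∀ (Q : Type u) [Group Q], Subgroup Q))
  (h𝓦 : ∀ W ∈ 𝓦, Cfsg.IsCharPFunctor.{u} p W)

include h𝓦 in
/-- lifting chains from the quotient by a normal `p'`-subgroup -/
theorem FReach.lift_of_coprime {H : Type u} [Group H] [Finite H] (D : Subgroup H) [hDn : D.Normal]
    (hD : (Nat.card D).Coprime p) (S : Sylow p H) {A : Set H} (hA : A ⊆ (S : Subgroup H))
    {cb : H ⧸ D}
    (h : FReach (inducedFamily 𝓦 (H ⧸ D)) ⊤ ((S : Subgroup H).map (QuotientGroup.mk' D))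
      (QuotientGroup.mk' D '' A) cb) :
    ∃ c : H, QuotientGroup.mk' D c = cb ∧ FReach (inducedFamily 𝓦 H) ⊤ (S : Subgroup H) A c := by
  set π := QuotientGroup.mk' D with hπ
  have hπs : Function.Surjective π := QuotientGroup.mk'_surjective D
  induction h with
  | refl _ => exact ⟨1, map_one _, FReach.refl hA⟩
  | step cb yb W' hW' hyb hcb himg ih =>
    obtain ⟨c, hc, hreach⟩ := ih
    obtain ⟨W, hW, rfl⟩ := hW'
    obtain ⟨y₀, rfl⟩ := hπs yb
    set M := Subgroup.normalizer ((Cfsg.inducedFunctor W (S : Subgroup H) : Subgroup H) : Set H)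
      with hM
    have hSM : (S : Subgroup H) ≤ M :=
      Subgroup.le_normalizer.trans (normalizer_le_normalizer_of_isConjugacyFunctor
        (isConjugacyFunctor_induced W (h𝓦 W hW) H) S.2)
    have hy₀ : y₀ ∈ M ⊔ D :=
      comap_normalizer_le_of_coprime W (h𝓦 W hW) D hD S (Subgroup.mem_inf.mp hyb).2
    rw [Subgroup.mem_sup_of_normal_right] at hy₀
    obtain ⟨m, hm, d, hd, hmd⟩ := hy₀
    have hπm : π m = π y₀ := by
      rw [← hmd, map_mul]
      have : π d = 1 := (QuotientGroup.eq_one_iff d).mpr hd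
      rw [this, mul_one]
    set B := lcj c A with hB
    have hBS : B ⊆ (S : Subgroup H) := hreach.image_subset
    have hclS : Subgroup.closure B ≤ (S : Subgroup H) := (Subgroup.closure_le _).mpr hBS
    set B₁ := cj m (Subgroup.closure B) with hB₁
    have hB₁p : IsPGroup p B₁ := (S.2.to_le hclS).map _
    have hcomap : ((S : Subgroup H).map π).comap π = (S : Subgroup H) ⊔ D := by
      rw [Subgroup.comap_map_eq, QuotientGroup.ker_mk']
    have hB₁SD : B₁ ≤ (S : Subgroup H) ⊔ D := by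
      rw [hB₁, cj_def, MonoidHom.map_closure, Subgroup.closure_le]
      rintro _ ⟨_, ⟨a, ha, rfl⟩, rfl⟩
      rw [SetLike.mem_coe, ← hcomap, Subgroup.mem_comap]
      have h1 : (π y₀ * cb) * π a * (π y₀ * cb)⁻¹ ∈ (S : Subgroup H).map π :=
        himg (mem_lcj_of_mem ⟨a, ha, rfl⟩)
      rw [← hπm, ← hc] at h1
      simpa [MulAut.conj_apply, mul_assoc] using h1
    have hB₁M : B₁ ≤ M := by
      have h1 : cj m M = M := cj_self_of_mem hm
      rw [← h1]
      exact cj_mono m (hclS.trans hSM)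
    set Y := ((S : Subgroup H) ⊔ D) ⊓ M with hY
    have hSY : (S : Subgroup H) ≤ Y := le_inf le_sup_left hSM
    have hidx : ¬ p ∣ (S : Subgroup H).relIndex Y := fun hdvd =>
      S.not_dvd_index (dvd_trans hdvd (Subgroup.relIndex_dvd_index_of_le hSY))
    obtain ⟨k, hkY, hk⟩ := exists_conj_mem_of_relIndex (S : Subgroup H) Y B₁ S.2 hidx
      (le_inf hB₁SD hB₁M) hB₁p
    have hk1 := (Subgroup.mem_inf.mp hkY).1
    rw [Subgroup.mem_sup_of_normal_right] at hk1
    obtain ⟨s, hs, d₀, hd₀, hsd⟩ := hk1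
    have hd₀M : d₀ ∈ M := by
      have e : d₀ = s⁻¹ * k := by rw [← hsd]; group
      rw [e]
      exact M.mul_mem (M.inv_mem (hSM hs)) (Subgroup.mem_inf.mp hkY).2
    have hd₀B : ∀ b ∈ B₁, d₀ * b * d₀⁻¹ ∈ (S : Subgroup H) := by
      intro b hb
      have e : d₀ * b * d₀⁻¹ = s⁻¹ * (k * b * k⁻¹) * s := by rw [← hsd]; group
      rw [e]
      exact (S : Subgroup H).mul_mem ((S : Subgroup H).mul_mem ((S : Subgroup H).inv_mem hs)
        (hk b hb)) hs
    refine ⟨(d₀ * m) * c, ?_, ?_⟩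
    · rw [map_mul, map_mul, hc, hπm]
      have : π d₀ = 1 := (QuotientGroup.eq_one_iff d₀).mpr hd₀
      rw [this, one_mul]
    · refine FReach.step c (d₀ * m) (Cfsg.inducedFunctor W) ⟨W, hW, rfl⟩
        (Subgroup.mem_inf.mpr ⟨Subgroup.mem_top _, M.mul_mem hd₀M hm⟩) hreach ?_
      rintro _ ⟨a, ha, rfl⟩
      have hb : m * (c * a * c⁻¹) * m⁻¹ ∈ B₁ :=
        ⟨c * a * c⁻¹, Subgroup.subset_closure (mem_lcj_of_mem ha), by simp [MulAut.conj_apply]⟩
      have := hd₀B _ hb
      have e : d₀ * m * c * a * (d₀ * m * c)⁻¹ = d₀ * (m * (c * a * c⁻¹) * m⁻¹) * d₀⁻¹ := by group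
      show d₀ * m * c * a * (d₀ * m * c)⁻¹ ∈ (S : Subgroup H)
      rw [e]; exact this

include h𝓦 in
/-- control of strong fusion lifts from the quotient by a normal `p'`-subgroup -/
theorem fctl_of_coprime_quotient {H : Type u} [Group H] [Finite H] (D : Subgroup H) [hDn : D.Normal]
    (hD : (Nat.card D).Coprime p) (S : Sylow p H)
    (hq : Cfsg.FamilyControlsStrongFusionIn p (inducedFamily 𝓦 (H ⧸ D)) ⊤) :
    ∀ (A : Set H) (x : H), A ⊆ (S : Subgroup H) → lcj x A ⊆ (S : Subgroup H) →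
      FCtl (inducedFamily 𝓦 H) ⊤ (S : Subgroup H) A x := by
  intro A x hA hAx
  set π := QuotientGroup.mk' D with hπ
  have hπs : Function.Surjective π := QuotientGroup.mk'_surjective D
  set Sb := (S : Subgroup H).map π with hSb
  have hfamq := isConjugacyFunctor_inducedFamily 𝓦 h𝓦 (H ⧸ D)
  have hidx : ¬ p ∣ Sb.relIndex ⊤ := by
    rw [Subgroup.relIndex_top_right]
    intro hdvd
    exact S.not_dvd_index (dvd_trans hdvd (Subgroup.index_map_dvd _ hπs))
  have hAb : π '' A ⊆ Sb := by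
    rintro _ ⟨a, ha, rfl⟩
    exact ⟨a, hA ha, rfl⟩
  have hAxb : lcj (π x) (π '' A) ⊆ Sb := by
    rw [lcj_image_hom]
    rintro _ ⟨a, ha, rfl⟩
    exact ⟨a, hAx ha, rfl⟩
  obtain ⟨cb, hcb, hag⟩ := familyControlsStrongFusionIn_sylow _ hfamq hq (le_top : Sb ≤ ⊤)
    (S.2.map π) hidx (π '' A) (π x) (Subgroup.mem_top _) hAb hAxb
  obtain ⟨c, hc, hreach⟩ := FReach.lift_of_coprime 𝓦 h𝓦 D hD S hA hcb
  have hdisj : (S : Subgroup H) ⊓ D = ⊥ := by
    apply disjoint_iff.mp
    apply Subgroup.disjoint_of_coprime_natCard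
    obtain ⟨k, hk⟩ := IsPGroup.iff_card.mp S.2
    rw [hk]
    exact (Nat.Coprime.pow_right k hD).symm
  refine ⟨c, hreach, fun a ha => ?_⟩
  have h1 : c * a * c⁻¹ ∈ (S : Subgroup H) := hreach.image_subset (mem_lcj_of_mem ha)
  have h2 : x * a * x⁻¹ ∈ (S : Subgroup H) := hAx (mem_lcj_of_mem ha)
  have h3 : π (c * a * c⁻¹) = π (x * a * x⁻¹) := by
    have := hag (π a) ⟨a, ha, rfl⟩
    rw [← hc] at this
    rw [map_mul, map_mul, map_inv, map_mul, map_mul, map_inv]
    exact this
  have h4 : (c * a * c⁻¹)⁻¹ * (x * a * x⁻¹) ∈ D := QuotientGroup.eq.mp h3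
  have h5 : (c * a * c⁻¹)⁻¹ * (x * a * x⁻¹) ∈ (S : Subgroup H) ⊓ D :=
    ⟨(S : Subgroup H).mul_mem ((S : Subgroup H).inv_mem h1) h2, h4⟩
  rw [hdisj, Subgroup.mem_bot] at h5
  exact inv_mul_eq_one.mp h5

end fuscoprime

section tametrivial
variable {H : Type*} [Group H] [Finite H] {p : ℕ} [Fact p.Prime]

/-- an element centralizing the normal `p`-subgroup `P` and acting trivially on `T / P` has a `p`-power
centralizing `T` -/
theorem pow_mem_centralizer_of_trivial_mod (P T : Subgroup H) (hPp : IsPGroup p P)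
    (k : H) (hkP : k ∈ Subgroup.centralizer (P : Set H)) (hk : ∀ t ∈ T, k * t * k⁻¹ * t⁻¹ ∈ P) :
    ∃ m : ℕ, k ^ p ^ m ∈ Subgroup.centralizer (T : Set H) := by
  obtain ⟨m, hm⟩ := IsPGroup.iff_card.mp hPp
  refine ⟨m, ?_⟩
  rw [Subgroup.mem_centralizer_iff]
  intro t ht
  set u := k * t * k⁻¹ * t⁻¹ with hu
  have huP : u ∈ P := hk t ht
  have hku : u * k = k * u := (Subgroup.mem_centralizer_iff.mp hkP) u huP
  have hkt : k * t = u * t * k := by rw [hu]; group
  have hkuj : ∀ j : ℕ, k * u ^ j = u ^ j * k := fun j =>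
    ((show Commute u k from hku).pow_left j).eq.symm
  have key : ∀ j : ℕ, k ^ j * t = u ^ j * t * k ^ j := by
    intro j
    induction j with
    | zero => simp
    | succ j ih =>
      calc k ^ (j + 1) * t = k * (k ^ j * t) := by rw [pow_succ', mul_assoc]
        _ = k * (u ^ j * t * k ^ j) := by rw [ih]
        _ = (k * u ^ j) * t * k ^ j := by group
        _ = u ^ j * (k * t) * k ^ j := by rw [hkuj]; group
        _ = u ^ j * (u * t * k) * k ^ j := by rw [hkt]
        _ = u ^ (j + 1) * t * k ^ (j + 1) := by rw [pow_succ, pow_succ']; group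
  have hone : u ^ p ^ m = 1 := by
    have h1 : (⟨u, huP⟩ : P) ^ Nat.card P = 1 := pow_card_eq_one'
    rw [hm] at h1
    have := congrArg Subtype.val h1
    simpa using this
  have := key (p ^ m)
  rw [hone, one_mul] at this
  exact this.symm

/-- an element of `N_H(T)` acting trivially on `T / P`, where every element of `H` has a `p`-power in
`C_H(P)`, acts on a tame `T` as an element of `N_S(T)` -/
theorem exists_sylow_conj_of_trivial_mod (S : Sylow p H) (P T : Subgroup H) [hPn : P.Normal]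
    (hPp : IsPGroup p P)
    (hpow : ∀ k : H, ∃ m : ℕ, k ^ p ^ m ∈ Subgroup.centralizer (P : Set H))
    (htame : ¬ p ∣ ((S : Subgroup H) ⊓ Subgroup.normalizer (T : Set H)).relIndex
      (Subgroup.normalizer (T : Set H)))
    (z : H) (hz : z ∈ Subgroup.normalizer (T : Set H)) (hzP : ∀ t ∈ T, z * t * z⁻¹ * t⁻¹ ∈ P) :
    ∃ s ∈ (S : Subgroup H) ⊓ Subgroup.normalizer (T : Set H), ∀ t ∈ T, z * t * z⁻¹ = s * t * s⁻¹ := by
  set N := Subgroup.normalizer (T : Set H) with hN
  set S₁ := (S : Subgroup H) ⊓ N with hS₁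
  -- the subgroup of `N` of elements acting trivially on `T / P`
  let K₂ : Subgroup ↥N :=
    { carrier := {n | ∀ t ∈ T, (n : H) * t * (n : H)⁻¹ * t⁻¹ ∈ P}
      one_mem' := by
        intro t _
        simp
      mul_mem' := by
        intro a b ha hb t ht
        have e : ((a * b : ↥N) : H) * t * ((a * b : ↥N) : H)⁻¹ * t⁻¹ =
            (a : H) * ((b : H) * t * (b : H)⁻¹ * t⁻¹) * (a : H)⁻¹ * ((a : H) * t * (a : H)⁻¹ * t⁻¹) := by
          rw [Subgroup.coe_mul]; group
        rw [e]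
        exact P.mul_mem (hPn.conj_mem _ (hb t ht) _) (ha t ht)
      inv_mem' := by
        intro a ha t ht
        have ht' : (a : H)⁻¹ * t * (a : H) ∈ T := by
          have h1 : (a : H)⁻¹ ∈ N := N.inv_mem a.2
          have := (Subgroup.mem_normalizer_iff.mp h1 t).mp ht
          simpa using this
        have h2 := ha _ ht'
        have e : ((a⁻¹ : ↥N) : H) * t * ((a⁻¹ : ↥N) : H)⁻¹ * t⁻¹ =
            ((a : H) * ((a : H)⁻¹ * t * (a : H)) * (a : H)⁻¹ * ((a : H)⁻¹ * t * (a : H))⁻¹)⁻¹ := by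
          rw [Subgroup.coe_inv]; group
        rw [e]
        exact P.inv_mem h2 }
  have hK₂n : K₂.Normal := by
    constructor
    intro k hk n t ht
    have ht' : (n : H)⁻¹ * t * (n : H) ∈ T := by
      have h1 : (n : H)⁻¹ ∈ N := N.inv_mem n.2
      have := (Subgroup.mem_normalizer_iff.mp h1 t).mp ht
      simpa using this
    have h2 := hk _ ht'
    have e : ((n * k * n⁻¹ : ↥N) : H) * t * ((n * k * n⁻¹ : ↥N) : H)⁻¹ * t⁻¹ =
        (n : H) * ((k : H) * ((n : H)⁻¹ * t * (n : H)) * (k : H)⁻¹ * ((n : H)⁻¹ * t * (n : H))⁻¹) *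
          (n : H)⁻¹ := by
      rw [Subgroup.coe_mul, Subgroup.coe_mul, Subgroup.coe_inv]; group
    rw [e]
    exact hPn.conj_mem _ h2 _
  let φ : ↥N →* MulAut ↥T := T.normalizerMonoidHom
  let φ' : ↥N →* φ.range := φ.rangeRestrict
  have hφ's : Function.Surjective φ' := φ.rangeRestrict_surjective
  have hker : ∀ n : ↥N, φ' n = 1 ↔ (n : H) ∈ Subgroup.centralizer (T : Set H) := by
    intro n
    have h1 : φ' n = 1 ↔ n ∈ φ.ker := by
      rw [MonoidHom.mem_ker]
      constructor
      · intro h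
        exact congrArg Subtype.val h
      · intro h
        exact Subtype.ext h
    rw [h1, Subgroup.normalizerMonoidHom_ker, Subgroup.mem_subgroupOf]
  -- the image of `K₂` is a normal `p`-subgroup
  have hKbn : (K₂.map φ').Normal := hK₂n.map φ' hφ's
  have hKbp : IsPGroup p (K₂.map φ') := by
    rintro ⟨g, k, hk, rfl⟩
    obtain ⟨m₁, hm₁⟩ := hpow (k : H)
    have hk₁ : k ^ p ^ m₁ ∈ K₂ := K₂.pow_mem hk _
    obtain ⟨m₂, hm₂⟩ := pow_mem_centralizer_of_trivial_mod P T hPp ((k : H) ^ p ^ m₁) hm₁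
      (fun t ht => by
        have := hk₁ t ht
        simpa using this)
    refine ⟨m₁ + m₂, ?_⟩
    apply Subtype.ext
    rw [Subgroup.coe_pow, Subgroup.coe_one, ← map_pow, hker, Subgroup.coe_pow, pow_add, pow_mul]
    exact hm₂
  -- the Sylow subgroup
  have hS₁p : IsPGroup p (S₁.subgroupOf N) := (S.2.to_le inf_le_left).comap_subtype
  let Q₀ : Sylow p ↥N := hS₁p.toSylow htame
  let Q : Sylow p φ.range := Q₀.mapSurjective hφ's
  haveI := hKbn
  have hle : K₂.map φ' ≤ Q := hKbp.le_sylow_of_normal Q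
  have hzK : (⟨z, hz⟩ : ↥N) ∈ K₂ := hzP
  have h1 : φ' ⟨z, hz⟩ ∈ (Q : Subgroup φ.range) := hle ⟨_, hzK, rfl⟩
  obtain ⟨s, hs, hsz⟩ := h1
  have hs' : (s : H) ∈ S₁ := by
    have : s ∈ S₁.subgroupOf N := hs
    rwa [Subgroup.mem_subgroupOf] at this
  refine ⟨s, hs', fun t ht => ?_⟩
  have h2 : φ s = φ ⟨z, hz⟩ := congrArg Subtype.val hsz
  have h3 := congrArg (fun f : MulAut ↥T => ((f ⟨t, ht⟩ : ↥T) : H)) h2
  exact h3.symm

end tametrivial

section fuschain
variable {G : Type*} [Group G] {𝓦 : Set (Subgroup G → Subgroup G)}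

/-- along a chain of subgroups containing the normal subgroup `P`, conjugation is reached, provided each
member containing `P` satisfies the local claim -/
theorem fctl_of_chain_of_le (S P : Subgroup G) [hPn : P.Normal] (𝓕 : Set (Subgroup G))
    (hclaim : ∀ T ∈ 𝓕, P ≤ T → ∀ x ∈ Subgroup.normalizer ((T : Subgroup G) : Set G),
      FCtl 𝓦 ⊤ S (T : Set G) x) (l : List (Subgroup G × G)) :
    ∀ A : Set G, (P : Set G) ⊆ A → A ⊆ S → Chain 𝓕 A l → FCtl 𝓦 ⊤ S A (prodOf l)⁻¹ := by
  induction l with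
  | nil =>
    intro A _ hAS _
    rw [prodOf_nil, inv_one]
    exact FCtl.one hAS
  | cons q l ih =>
    obtain ⟨T, x⟩ := q
    rintro A hPA hAS ⟨hT, hx, hA, hl⟩
    have h1 : FCtl 𝓦 ⊤ S (T : Set G) x⁻¹ := hclaim T hT (hPA.trans hA) x⁻¹ (inv_mem hx)
    have h1' : FCtl 𝓦 ⊤ S A x⁻¹ := h1.mono hA
    rw [cjs_eq_lcj] at hl
    have hPA' : (P : Set G) ⊆ lcj x⁻¹ A := by
      intro y hy
      rw [mem_lcj]
      apply hPA
      have := hPn.conj_mem y hy x⁻¹⁻¹
      simpa using this
    have h2 := ih _ hPA' h1'.image_subset hl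
    rw [prodOf_cons, mul_inv_rev]
    exact h1'.trans h2

end fuschain

section fuskey
variable {p : ℕ} [Fact p.Prime] (𝓦 : Set (∀ (Q : Type u) [Group Q], Subgroup Q))
  (h𝓦 : ∀ W ∈ 𝓦, Cfsg.IsCharPFunctor.{u} p W)

/-- the hypothesis on a group `Q` with `C_Q(O_p(Q)) ≤ O_p(Q)` -/
def FamFusHyp (p : ℕ) (𝓦 : Set (∀ (Q : Type u) [Group Q], Subgroup Q)) (Q : Type u) [Group Q] :
    Prop :=
  Subgroup.centralizer ((Cfsg.pCore p Q : Subgroup Q) : Set Q) ≤ Cfsg.pCore p Q →
    Cfsg.FamilyControlsStrongFusionIn p ((fun W => Cfsg.inducedFunctor (G := Q) W) '' 𝓦) ⊤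

include h𝓦 in
theorem famFusHyp_of_equiv {Q Q' : Type u} [Group Q] [Group Q'] [Finite Q] (e : Q ≃* Q')
    (h : FamFusHyp p 𝓦 Q) : FamFusHyp p 𝓦 Q' := by
  intro hC'
  exact familyControlsStrongFusionIn_top_of_equiv 𝓦 h𝓦 e (h (centralizer_pCore_le_of_equiv e hC'))

include h𝓦 in
/-- lifting chains from the quotient by `P = O_p(H)`, given control in proper subgroups containing `S` -/
theorem FReach.lift_of_pCore {H : Type u} [Group H] [Finite H] (P : Subgroup H) [hPn : P.Normal]
    (hP : P = Cfsg.pCore p H) (S : Sylow p H) (hSP : (S : Subgroup H) ≠ P)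
    (hsub : ∀ N₁ : Subgroup H, N₁ ≠ ⊤ → (S : Subgroup H) ≤ N₁ → ∀ (B : Set H) (x : H), x ∈ N₁ →
      B ⊆ (S : Subgroup H) → lcj x B ⊆ (S : Subgroup H) →
      FCtl (inducedFamily 𝓦 H) ⊤ (S : Subgroup H) B x)
    {B : Set H} (hB : B ⊆ (S : Subgroup H)) {cb : H ⧸ P}
    (h : FReach (inducedFamily 𝓦 (H ⧸ P)) ⊤ ((S : Subgroup H).map (QuotientGroup.mk' P))
      (QuotientGroup.mk' P '' B) cb) :
    ∃ c : H, QuotientGroup.mk' P c = cb ∧ FCtl (inducedFamily 𝓦 H) ⊤ (S : Subgroup H) B c := by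
  have hPS : P ≤ (S : Subgroup H) := hP ▸ Cfsg.Agent.Lib.Helper1.pCore_le_sylow S
  set π := QuotientGroup.mk' P with hπ
  have hπs : Function.Surjective π := QuotientGroup.mk'_surjective P
  have hcomap : ((S : Subgroup H).map π).comap π = (S : Subgroup H) := by
    rw [Subgroup.comap_map_eq, QuotientGroup.ker_mk', sup_eq_left.mpr hPS]
  induction h with
  | refl _ => exact ⟨1, map_one _, FCtl.one hB⟩
  | step cb yb W' hW' hyb hcb himg ih =>
    obtain ⟨c, hc, hFc⟩ := ih
    obtain ⟨W, hW, rfl⟩ := hW'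
    obtain ⟨y, rfl⟩ := hπs yb
    have hLne := comap_normalizer_ne_top W (h𝓦 W hW) P hP S hSP
    have hSL := sylow_le_comap_normalizer W (h𝓦 W hW) P S
    have hyL : y ∈ (Subgroup.normalizer ((Cfsg.inducedFunctor W
      ((S : Subgroup H).map (QuotientGroup.mk' P)) : Subgroup (H ⧸ P)) : Set (H ⧸ P))).comap
        (QuotientGroup.mk' P) := (Subgroup.mem_inf.mp hyb).2
    have hcB : lcj c B ⊆ (S : Subgroup H) := hFc.image_subset
    have hycB : lcj y (lcj c B) ⊆ (S : Subgroup H) := by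
      rintro _ ⟨_, ⟨b, hb, rfl⟩, rfl⟩
      rw [SetLike.mem_coe, ← hcomap, Subgroup.mem_comap]
      have h1 : (π y * cb) * π b * (π y * cb)⁻¹ ∈ (S : Subgroup H).map π :=
        himg (mem_lcj_of_mem ⟨b, hb, rfl⟩)
      rw [← hc] at h1
      simpa [mul_assoc] using h1
    have h1 := hsub _ hLne hSL (lcj c B) y hyL hcB hycB
    exact ⟨y * c, by rw [map_mul, hc], hFc.trans h1⟩

include h𝓦 in
/-- the inductive step for a group with `O_p(H) ≠ 1` -/
theorem fctl_of_pCore_ne_bot {H : Type u} [Group H] [Finite H] (S : Sylow p H)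
    (ihsub : ∀ N₁ : Subgroup H, N₁ ≠ ⊤ →
      Cfsg.FamilyControlsStrongFusionIn p (inducedFamily 𝓦 H) N₁)
    (ihquot : ∀ (Z : Subgroup H) [Z.Normal], Z ≠ ⊥ →
      Cfsg.FamilyControlsStrongFusionIn p (inducedFamily 𝓦 (H ⧸ Z)) ⊤)
    (hH : FamFusHyp p 𝓦 H) (hP : Cfsg.pCore p H ≠ ⊥) :
    ∀ (A : Set H) (x : H), A ⊆ (S : Subgroup H) → lcj x A ⊆ (S : Subgroup H) →
      FCtl (inducedFamily 𝓦 H) ⊤ (S : Subgroup H) A x := by
  have hfam := isConjugacyFunctor_inducedFamily 𝓦 h𝓦 H
  have hsub : ∀ N₁ : Subgroup H, N₁ ≠ ⊤ → (S : Subgroup H) ≤ N₁ → ∀ (B : Set H) (x : H), x ∈ N₁ →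
      B ⊆ (S : Subgroup H) → lcj x B ⊆ (S : Subgroup H) →
      FCtl (inducedFamily 𝓦 H) ⊤ (S : Subgroup H) B x := by
    intro N₁ hne hSN B x hx hB hBx
    have hidx : ¬ p ∣ (S : Subgroup H).relIndex N₁ := fun hdvd =>
      S.not_dvd_index (dvd_trans hdvd (Subgroup.relIndex_dvd_index_of_le hSN))
    exact (familyControlsStrongFusionIn_sylow _ hfam (ihsub N₁ hne) hSN S.2 hidx B x hx hB hBx).mono_left
      le_top
  by_cases hD : Cfsg.pPrimeCore p H = ⊥
  · by_cases hC : Subgroup.centralizer ((Cfsg.pCore p H : Subgroup H) : Set H) ≤ Cfsg.pCore p H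
    · have hidx : ¬ p ∣ (S : Subgroup H).relIndex ⊤ := by
        rw [Subgroup.relIndex_top_right]; exact S.not_dvd_index
      intro A x hA hAx
      exact familyControlsStrongFusionIn_sylow _ hfam (hH hC) le_top S.2 hidx A x (Subgroup.mem_top _)
        hA hAx
    · set P := Cfsg.pCore p H with hPdef
      haveI hPn : P.Normal := Cfsg.Agent.Lib.Helper1.pCore_normal p H
      have hPp : IsPGroup p P := Cfsg.Agent.Lib.Helper1.pCore_isPGroup p H
      have hPS : P ≤ (S : Subgroup H) := Cfsg.Agent.Lib.Helper1.pCore_le_sylow S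
      set C := Subgroup.centralizer (P : Set H) with hCdef
      haveI hCn : C.Normal := Subgroup.normal_centralizer
      have hCS : ¬ ((S : Subgroup H) ⊓ C ≤ P) := fun h =>
        hC (centralizer_pCore_le_of_sylow_inf S hD h)
      have hSP : (S : Subgroup H) ≠ P := by
        intro h
        apply hCS
        rw [h]
        exact inf_le_left
      set N := P ⊔ C with hN
      haveI hNn : N.Normal := inferInstance
      obtain ⟨R₀, hR₀⟩ := Cfsg.Agent.Lib.Helper16.exists_sylow_of_normal_inf S N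
      have hfr := Sylow.normalizer_sup_eq_top R₀
      rw [hR₀] at hfr
      set R := (S : Subgroup H) ⊓ N with hR
      set N₂ := Subgroup.normalizer (R : Set H) with hN₂
      have hPR : P ≤ R := le_inf hPS le_sup_left
      have hSN₂ : (S : Subgroup H) ≤ N₂ := by
        intro s hs
        rw [hN₂, Subgroup.mem_normalizer_iff]
        intro y
        constructor
        · rintro ⟨hyS, hyN⟩
          exact ⟨(S : Subgroup H).mul_mem ((S : Subgroup H).mul_mem hs hyS)
            ((S : Subgroup H).inv_mem hs), hNn.conj_mem y hyN s⟩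
        · rintro ⟨h1, h2⟩
          refine ⟨?_, ?_⟩
          · have e : y = s⁻¹ * (s * y * s⁻¹) * s := by group
            rw [e]
            exact (S : Subgroup H).mul_mem ((S : Subgroup H).mul_mem
              ((S : Subgroup H).inv_mem hs) h1) hs
          · have := hNn.conj_mem _ h2 s⁻¹
            have e : y = s⁻¹ * (s * y * s⁻¹) * s⁻¹⁻¹ := by group
            rw [e]; exact this
      have hN₂ne : N₂ ≠ ⊤ := by
        intro htop
        have hRn : R.Normal := Subgroup.normalizer_eq_top_iff.mp htop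
        have hRP : R ≤ P := Cfsg.Agent.Lib.Helper1.le_pCore hRn (S.2.to_le inf_le_left)
        exact hCS ((inf_le_inf_left _ le_sup_right).trans hRP)
      have hN₂C : C ⊔ N₂ = ⊤ := by
        rw [eq_top_iff, ← hfr]
        exact sup_le le_sup_right
          (sup_le ((hPR.trans Subgroup.le_normalizer).trans le_sup_right) le_sup_left)
      by_cases hSC : (S : Subgroup H) ⊔ C = ⊤
      · -- `H / C` is a `p`-group
        have hpow : ∀ k : H, ∃ m : ℕ, k ^ p ^ m ∈ C := by
          intro k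
          have hk : k ∈ (S : Subgroup H) ⊔ C := by rw [hSC]; trivial
          rw [Subgroup.mem_sup_of_normal_right] at hk
          obtain ⟨s, hs, c, hc, rfl⟩ := hk
          obtain ⟨m, hm⟩ := S.2 ⟨s, hs⟩
          have hm' : s ^ p ^ m = 1 := by simpa using congrArg Subtype.val hm
          refine ⟨m, ?_⟩
          rw [← QuotientGroup.eq_one_iff, QuotientGroup.mk_pow, QuotientGroup.mk_mul]
          have : ((c : H) : H ⧸ C) = 1 := (QuotientGroup.eq_one_iff c).mpr hc
          rw [this, mul_one, ← QuotientGroup.mk_pow, hm', QuotientGroup.mk_one]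
        set π := QuotientGroup.mk' P with hπ
        have hπs : Function.Surjective π := QuotientGroup.mk'_surjective P
        set Sb := (S : Subgroup H).map π with hSb
        have hfamq := isConjugacyFunctor_inducedFamily 𝓦 h𝓦 (H ⧸ P)
        have hidxq : ¬ p ∣ Sb.relIndex ⊤ := by
          rw [Subgroup.relIndex_top_right]
          intro hdvd
          exact S.not_dvd_index (dvd_trans hdvd (Subgroup.index_map_dvd _ hπs))
        have hq := ihquot P hP
        have hclaim : ∀ T ∈ tameFamily S, P ≤ T →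
            ∀ x ∈ Subgroup.normalizer ((T : Subgroup H) : Set H),
              FCtl (inducedFamily 𝓦 H) ⊤ (S : Subgroup H) (T : Set H) x := by
          intro T htame hPT x hx
          have hTb : π '' (T : Set H) ⊆ Sb := by
            rintro _ ⟨t, ht, rfl⟩
            exact ⟨t, htame.1 ht, rfl⟩
          have hxT : lcj x (T : Set H) ⊆ (T : Set H) := lcj_subset_of_mem_normalizer hx le_rfl
          have hTxb : lcj (π x) (π '' (T : Set H)) ⊆ Sb := by
            rw [lcj_image_hom]
            rintro _ ⟨t, ht, rfl⟩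
            exact ⟨t, htame.1 (hxT ht), rfl⟩
          obtain ⟨cb, hcb, hag⟩ := familyControlsStrongFusionIn_sylow _ hfamq hq (le_top : Sb ≤ ⊤)
            (S.2.map π) hidxq (π '' (T : Set H)) (π x) (Subgroup.mem_top _) hTb hTxb
          obtain ⟨l, hl, hFl⟩ := FReach.lift_of_pCore 𝓦 h𝓦 P rfl S hSP hsub
            (show (T : Set H) ⊆ (S : Subgroup H) from htame.1) hcb
          have hmod : ∀ t ∈ T, (x * t * x⁻¹)⁻¹ * (l * t * l⁻¹) ∈ P := by
            intro t ht
            apply QuotientGroup.eq.mp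
            have := hag (π t) ⟨t, ht, rfl⟩
            rw [← hl] at this
            show π (x * t * x⁻¹) = π (l * t * l⁻¹)
            rw [map_mul, map_mul, map_inv, map_mul, map_mul, map_inv]
            exact this.symm
          have hlT : cj l T ≤ T := by
            rintro _ ⟨t, ht, rfl⟩
            have e : (MulAut.conj l).toMonoidHom t =
                (x * t * x⁻¹) * ((x * t * x⁻¹)⁻¹ * (l * t * l⁻¹)) := by
              show l * t * l⁻¹ = _
              group
            rw [e]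
            exact T.mul_mem (hxT (mem_lcj_of_mem ht)) (hPT (hmod t ht))
          have hlN : l ∈ Subgroup.normalizer ((T : Subgroup H) : Set H) :=
            mem_normalizer_of_cj_eq (cj_eq_of_le hlT)
          have hzN : x * l⁻¹ ∈ Subgroup.normalizer ((T : Subgroup H) : Set H) :=
            Subgroup.mul_mem _ hx (Subgroup.inv_mem _ hlN)
          have hzP : ∀ t ∈ T, (x * l⁻¹) * t * (x * l⁻¹)⁻¹ * t⁻¹ ∈ P := by
            intro t ht
            have ht' : l⁻¹ * t * l ∈ T := by
              have := (Subgroup.mem_normalizer_iff.mp (Subgroup.inv_mem _ hlN) t).mp ht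
              simpa using this
            have h1 := hmod _ ht'
            have h2 := hPn.conj_mem _ (P.inv_mem h1) (x * (l⁻¹ * t * l) * x⁻¹)
            have e : (x * l⁻¹) * t * (x * l⁻¹)⁻¹ * t⁻¹ =
                (x * (l⁻¹ * t * l) * x⁻¹) *
                  ((x * (l⁻¹ * t * l) * x⁻¹)⁻¹ * (l * (l⁻¹ * t * l) * l⁻¹))⁻¹ *
                  (x * (l⁻¹ * t * l) * x⁻¹)⁻¹ := by group
            rw [e]
            exact h2
          obtain ⟨s, hs, hsz⟩ := exists_sylow_conj_of_trivial_mod S P T hPp hpow htame.2 (x * l⁻¹)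
            hzN hzP
          have hFs : FCtl (inducedFamily 𝓦 H) ⊤ (S : Subgroup H) (T : Set H) s :=
            hsub N₂ hN₂ne hSN₂ (T : Set H) s (hSN₂ hs.1) htame.1
              ((lcj_subset_of_mem_normalizer hs.2 le_rfl).trans htame.1)
          have hFz : FCtl (inducedFamily 𝓦 H) ⊤ (S : Subgroup H) (T : Set H) (x * l⁻¹) :=
            hFs.congr (fun t ht => hsz t ht)
          have hlT' : lcj l (T : Set H) ⊆ (T : Set H) := by
            rw [lcj_coe]; exact hlT
          have h3 := hFl.trans (hFz.mono hlT')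
          have e : x * l⁻¹ * l = x := by group
          rwa [e] at h3
        intro A x hA hAx
        set A₂ := Subgroup.closure A ⊔ P with hA₂
        have hclA : Subgroup.closure A ≤ (S : Subgroup H) := (Subgroup.closure_le _).mpr hA
        have hA₂S : A₂ ≤ (S : Subgroup H) := sup_le hclA hPS
        have hxA₂ : cj x⁻¹⁻¹ A₂ ≤ (S : Subgroup H) := by
          rw [inv_inv, hA₂, cj_def, Subgroup.map_sup, MonoidHom.map_closure]
          apply sup_le
          · rw [Subgroup.closure_le]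
            rintro _ ⟨a, ha, rfl⟩
            apply hAx
            exact ⟨a, ha, by simp [MulAut.conj_apply]⟩
          · rintro _ ⟨y, hy, rfl⟩
            apply hPS
            simpa [MulAut.conj_apply] using hPn.conj_mem y hy x
        obtain ⟨l, hl, hprod⟩ := reach_tame S A₂ hA₂S x⁻¹ hxA₂
        have h1 := fctl_of_chain_of_le (S : Subgroup H) P (tameFamily S) hclaim l (A₂ : Set H)
          (show (P : Set H) ⊆ A₂ from (le_sup_right : P ≤ A₂)) hA₂S hl
        rw [hprod, inv_inv] at h1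
        exact h1.mono (Subgroup.subset_closure.trans (le_sup_left : Subgroup.closure A ≤ A₂))
      · intro A x hA hAx
        have hx : x ∈ C ⊔ N₂ := by rw [hN₂C]; trivial
        rw [Subgroup.mem_sup_of_normal_left] at hx
        obtain ⟨c, hc, n, hn, rfl⟩ := hx
        have hclA : Subgroup.closure A ≤ (S : Subgroup H) := (Subgroup.closure_le _).mpr hA
        set B₁ := cj n (Subgroup.closure A) with hB₁
        have hB₁p : IsPGroup p B₁ := (S.2.to_le hclA).map _
        have hxcl : ∀ a ∈ Subgroup.closure A, (c * n) * a * (c * n)⁻¹ ∈ (S : Subgroup H) := by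
          have : cj (c * n) (Subgroup.closure A) ≤ (S : Subgroup H) := by
            rw [cj_def, MonoidHom.map_closure, Subgroup.closure_le]
            rintro _ ⟨a, ha, rfl⟩
            apply hAx
            exact ⟨a, ha, rfl⟩
          intro a ha
          exact this ⟨a, ha, rfl⟩
        have hB₁N₂ : B₁ ≤ N₂ := by
          have h1 : cj n N₂ = N₂ := cj_self_of_mem hn
          rw [← h1]
          exact cj_mono n (hclA.trans hSN₂)
        have hB₁SC : B₁ ≤ (S : Subgroup H) ⊔ C := by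
          rintro _ ⟨a, ha, rfl⟩
          have e : (MulAut.conj n).toMonoidHom a = c⁻¹ * ((c * n) * a * (c * n)⁻¹) * c := by
            show n * a * n⁻¹ = _
            group
          rw [e]
          exact Subgroup.mul_mem _ (Subgroup.mul_mem _ (Subgroup.mem_sup_right (C.inv_mem hc))
            (Subgroup.mem_sup_left (hxcl a ha))) (Subgroup.mem_sup_right hc)
        set Y := N₂ ⊓ ((S : Subgroup H) ⊔ C) with hY
        have hSY : (S : Subgroup H) ≤ Y := le_inf hSN₂ le_sup_left
        have hidx : ¬ p ∣ (S : Subgroup H).relIndex Y := fun hdvd =>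
          S.not_dvd_index (dvd_trans hdvd (Subgroup.relIndex_dvd_index_of_le hSY))
        obtain ⟨k, hkY, hk⟩ := exists_conj_mem_of_relIndex (S : Subgroup H) Y B₁ S.2 hidx
          (le_inf hB₁N₂ hB₁SC) hB₁p
        have hk2 := (Subgroup.mem_inf.mp hkY).2
        rw [Subgroup.mem_sup_of_normal_right] at hk2
        obtain ⟨s, hs, c₀, hc₀, hsc⟩ := hk2
        have hc₀N : c₀ ∈ N₂ := by
          have e : c₀ = s⁻¹ * k := by rw [← hsc]; group
          rw [e]
          exact N₂.mul_mem (N₂.inv_mem (hSN₂ hs)) (Subgroup.mem_inf.mp hkY).1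
        have hc₀B : ∀ b ∈ B₁, c₀ * b * c₀⁻¹ ∈ (S : Subgroup H) := by
          intro b hb
          have e : c₀ * b * c₀⁻¹ = s⁻¹ * (k * b * k⁻¹) * s := by rw [← hsc]; group
          rw [e]
          exact (S : Subgroup H).mul_mem ((S : Subgroup H).mul_mem ((S : Subgroup H).inv_mem hs)
            (hk b hb)) hs
        have hn'A : lcj (c₀ * n) A ⊆ (S : Subgroup H) := by
          rintro _ ⟨a, ha, rfl⟩
          have hb : n * a * n⁻¹ ∈ B₁ :=
            ⟨a, Subgroup.subset_closure ha, by simp [MulAut.conj_apply]⟩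
          have := hc₀B _ hb
          have e : c₀ * n * a * (c₀ * n)⁻¹ = c₀ * (n * a * n⁻¹) * c₀⁻¹ := by group
          show c₀ * n * a * (c₀ * n)⁻¹ ∈ (S : Subgroup H)
          rw [e]; exact this
        have h1 := hsub N₂ hN₂ne hSN₂ A (c₀ * n) (N₂.mul_mem hc₀N hn) hA hn'A
        have e : c * n = (c * c₀⁻¹) * (c₀ * n) := by group
        have h2 := hsub ((S : Subgroup H) ⊔ C) hSC le_sup_left (lcj (c₀ * n) A) (c * c₀⁻¹)
          (Subgroup.mem_sup_right (C.mul_mem hc (C.inv_mem hc₀))) hn'A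
          (by rw [← lcj_mul, ← e]; exact hAx)
        rw [e]
        exact h1.trans h2
  · set D := Cfsg.pPrimeCore p H with hDdef
    haveI hDn : D.Normal := Cfsg.Agent.Lib.Helper1.pPrimeCore_normal p H
    have hDcop : (Nat.card D).Coprime p := pPrimeCore_coprime p
    exact fctl_of_coprime_quotient 𝓦 h𝓦 D hDcop S (ihquot D hD)

include h𝓦 in
/-- **Glauberman**: control of strong fusion by `𝓦` in all constrained sections gives control of strong
fusion -/
theorem familyControlsStrongFusionIn_top_of_famFusHyp : ∀ (n : ℕ) (H : Type u) [Group H] [Finite H],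
    Nat.card H = n → AllSections (fun Q _ => Finite Q → FamFusHyp p 𝓦 Q) H →
    Cfsg.FamilyControlsStrongFusionIn p (inducedFamily 𝓦 H) ⊤ := by
  intro n
  induction n using Nat.strong_induction_on with
  | _ n ih =>
  intro H _ _ hcard hgood
  have hΦ : ∀ (Q Q' : Type u) [Group Q] [Group Q'], (Q ≃* Q') →
      (Finite Q → FamFusHyp p 𝓦 Q) → (Finite Q' → FamFusHyp p 𝓦 Q') := by
    intro Q Q' _ _ e h hfin
    haveI : Finite Q := Finite.of_equiv Q' e.symm.toEquiv
    exact famFusHyp_of_equiv 𝓦 h𝓦 e (h inferInstance)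
  obtain ⟨S⟩ : Nonempty (Sylow p H) := inferInstance
  have hfam := isConjugacyFunctor_inducedFamily 𝓦 h𝓦 H
  have ihsub : ∀ N₁ : Subgroup H, N₁ ≠ ⊤ →
      Cfsg.FamilyControlsStrongFusionIn p (inducedFamily 𝓦 H) N₁ := by
    intro N₁ hne
    apply familyControlsStrongFusionIn_of_subtype 𝓦 h𝓦
    apply ih (Nat.card N₁) _ ↥N₁ rfl (AllSections.subgroup _ hΦ hgood N₁)
    rw [← hcard]
    exact lt_of_le_of_ne (Subgroup.card_le_card_group N₁)
      (fun h => hne ((Subgroup.card_eq_iff_eq_top N₁).mp h))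
  have ihquot : ∀ (Z : Subgroup H) [Z.Normal], Z ≠ ⊥ →
      Cfsg.FamilyControlsStrongFusionIn p (inducedFamily 𝓦 (H ⧸ Z)) ⊤ := by
    intro Z _ hne
    apply ih (Nat.card (H ⧸ Z)) _ (H ⧸ Z) rfl (AllSections.quotient _ hΦ hgood Z)
    rw [← hcard, ← Subgroup.index_eq_card, ← Z.index_mul_card]
    have h1 : 1 < Nat.card Z := (Subgroup.one_lt_card_iff_ne_bot Z).mpr hne
    have h0 : 0 < Z.index := Nat.pos_of_ne_zero Subgroup.index_ne_zero_of_finite
    nlinarith
  have hH : FamFusHyp p 𝓦 H := AllSections.self _ hΦ hgood inferInstance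
  apply familyControlsStrongFusionIn_top_of_tame _ hfam S
  intro T hTS hTne _
  by_cases hN : Subgroup.normalizer (T : Set H) = ⊤
  · rw [hN]
    have hTn : T.Normal := Subgroup.normalizer_eq_top_iff.mp hN
    have hTp : IsPGroup p T := S.2.to_le hTS
    have hPne : Cfsg.pCore p H ≠ ⊥ := by
      intro h
      apply hTne
      rw [eq_bot_iff, ← h]
      exact Cfsg.Agent.Lib.Helper1.le_pCore hTn hTp
    have hkey := fctl_of_pCore_ne_bot 𝓦 h𝓦 S ihsub ihquot hH hPne
    refine ⟨S, le_top, S.2, ?_, ?_⟩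
    · rw [Subgroup.relIndex_top_right]; exact S.not_dvd_index
    · intro A x _ hA hAx
      exact fctl_iff_fin.mp (hkey A x hA hAx)
  · exact ihsub _ hN

end fuskey

end Cfsg.Agent.Lib.Helper27.H12
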