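import Mathlib
import Cfsg.Prelude.Def_ConjugacyFunctors
import Cfsg.Agent.Lib.Helper27.H12.FamilyFusionSections

/-!
Helper lemmas (helper12): conversions between the forms of control of strong fusion, and sections of sections.
-/

set_option autoImplicit false
set_option linter.unusedSectionVars false
set_option linter.style.haveILetI false
open Subgroup

namespace Cfsg.Agent.Lib.Helper27.H12
open Cfsg.Agent.Lib.Helper12

universe u

section convert
variable {G : Type*} [Group G]

/-- the Sylow-relative form gives control of strong fusion in the whole group -/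
theorem familyControlsStrongFusionIn_top_of_fctl [Finite G] {p : ℕ} [Fact p.Prime]
    (𝓦 : Set (Subgroup G → Subgroup G)) (S : Sylow p G)
    (h : ∀ (A : Set G) (x : G), A ⊆ (S : Subgroup G) → lcj x A ⊆ (S : Subgroup G) →
      FCtl 𝓦 ⊤ (S : Subgroup G) A x) :
    Cfsg.FamilyControlsStrongFusionIn p 𝓦 ⊤ := by
  refine ⟨S, le_top, S.2, ?_, ?_⟩
  · rw [Subgroup.relIndex_top_right]; exact S.not_dvd_index
  · intro A x _ hA hAx
    exact fctl_iff_fin.mp (h A x hA hAx)

/-- the element reached by a chain lies in any subgroup containing the normalizers used -/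
theorem FReach.mem_of_normalizer_le {𝓦 : Set (Subgroup G → Subgroup G)} {H T : Subgroup G}
    {A : Set G} {c : G} (h : FReach 𝓦 H T A c) (X : Subgroup G)
    (hX : ∀ W ∈ 𝓦, H ⊓ Subgroup.normalizer ((W T : Subgroup G) : Set G) ≤ X) : c ∈ X := by
  induction h with
  | refl _ => exact X.one_mem
  | step c y W hW hy hc himg ih => exact X.mul_mem (hX W hW hy) ih

end convert

section sections
variable (Φ : ∀ (Q : Type u) [Group Q], Prop)
  (hΦ : ∀ (Q Q' : Type u) [Group Q] [Group Q'], (Q ≃* Q') → Φ Q → Φ Q')
  {G : Type u} [Group G]

include hΦ in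
/-- the section hypothesis passes to sections -/
theorem AllSections.section (h : AllSections Φ G) (K R : Subgroup G)
    [hR : (R.subgroupOf K).Normal] : AllSections Φ (↥K ⧸ R.subgroupOf K) :=
  AllSections.quotient Φ hΦ (AllSections.subgroup Φ hΦ h K) (R.subgroupOf K)

end sections

end Cfsg.Agent.Lib.Helper27.H12
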